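import Mathlib

/-!
The groups `C₂ ≀ D₈` and `C₂ ≀ V₄` of degree four and their embeddings into the symmetric and
alternating groups of degree eight.
-/

set_option autoImplicit false

namespace CfsgLib.SylowWreathFour

open Equiv

/-- The involution whose centraliser is the dihedral group. -/
def mid : Perm (Fin 4) := Equiv.swap 0 1 * Equiv.swap 2 3

/-- The dihedral group of order eight. -/
def dih : Subgroup (Perm (Fin 4)) where
  carrier := {σ | σ * mid = mid * σ}
  one_mem' := by simp
  mul_mem' := fun {a b} (ha : a * mid = mid * a) (hb : b * mid = mid * b) => by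
    show a * b * mid = mid * (a * b)
    rw [mul_assoc, hb, ← mul_assoc, ha, mul_assoc]
  inv_mem' := fun {a} (ha : a * mid = mid * a) => (Commute.inv_left (a := a) ha).eq

/-- The regular four-group. -/
def klein : Subgroup (Perm (Fin 4)) := dih ⊓ Perm.sign.ker

instance : DecidablePred (· ∈ dih) := fun σ => decidable_of_iff (σ * mid = mid * σ) Iff.rfl

instance : DecidablePred (· ∈ klein) := fun σ =>
  decidable_of_iff (σ ∈ dih ∧ Perm.sign σ = 1) Iff.rfl

/-- The base. -/
abbrev Vec : Type := Multiplicative (Fin 4 → ZMod 2)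

/-- Permutation of the coordinates. -/
def permAut : Perm (Fin 4) →* MulAut Vec where
  toFun σ :=
    { toFun := fun v => Multiplicative.ofAdd (fun i => v.toAdd (σ⁻¹ i))
      invFun := fun v => Multiplicative.ofAdd (fun i => v.toAdd (σ i))
      left_inv := fun v => by
        apply Multiplicative.toAdd.injective
        funext i
        simp
      right_inv := fun v => by
        apply Multiplicative.toAdd.injective
        funext i
        simp
      map_mul' := fun v w => rfl }
  map_one' := by ext v; rfl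
  map_mul' σ τ := by ext v; rfl

/-- The wreath product with a group of degree four. -/
abbrev Wreath (D : Subgroup (Perm (Fin 4))) : Type := Vec ⋊[permAut.comp D.subtype] D

instance (D : Subgroup (Perm (Fin 4))) : Finite (Wreath D) :=
  Finite.of_equiv _ SemidirectProduct.equivProd.symm

theorem card_dih : Nat.card dih = 8 := by
  rw [Nat.card_eq_fintype_card]; decide +kernel

theorem card_klein : Nat.card klein = 4 := by
  rw [Nat.card_eq_fintype_card]; decide +kernel

theorem card_wreath (D : Subgroup (Perm (Fin 4))) : Nat.card (Wreath D) = 16 * Nat.card D := by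
  rw [SemidirectProduct.card, show Nat.card Vec = 16 by rw [Nat.card_eq_fintype_card]; rfl]

/-- A hom out of a wreath product. -/
def liftWreath {G : Type*} [Group G] (D : Subgroup (Perm (Fin 4))) (fn : Vec →* G) (fg : D →* G)
    (h : ∀ (σ : D) (v : Vec), fn (permAut (σ : Perm (Fin 4)) v) = fg σ * fn v * (fg σ)⁻¹) :
    Wreath D →* G :=
  SemidirectProduct.lift fn fg fun σ => MonoidHom.ext fun v => h σ v

theorem liftWreath_injective {G : Type*} [Group G] (D : Subgroup (Perm (Fin 4))) (fn : Vec →* G)
    (fg : D →* G) (h : ∀ (σ : D) (v : Vec), fn (permAut (σ : Perm (Fin 4)) v) = fg σ * fn v * (fg σ)⁻¹)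
    (hinj : ∀ (v : Vec) (σ : D), fn v * fg σ = 1 → v = 1 ∧ σ = 1) :
    Function.Injective (liftWreath D fn fg h) := by
  rw [injective_iff_map_eq_one]
  intro x hx
  obtain ⟨h1, h2⟩ := hinj x.left x.right hx
  exact SemidirectProduct.ext h1 h2

/-- A Sylow 2-subgroup recognised by a monomorphism. -/
theorem sylow_iso {G A : Type*} [Group G] [Finite G] [Group A] [Finite A] {k : ℕ} (f : A →* G)
    (hf : Function.Injective f) (hA : Nat.card A = 2 ^ k) (hG : ¬ 2 ^ (k + 1) ∣ Nat.card G)
    (P : Sylow 2 G) : Nonempty (A ≃* (P : Subgroup G)) := by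
  haveI := Fact.mk Nat.prime_two
  have hr : Nat.card f.range = 2 ^ k :=
    (Nat.card_congr (MonoidHom.ofInjective hf).toEquiv).symm.trans hA
  have hd : 2 ^ k ∣ Nat.card G := hr ▸ Subgroup.card_subgroup_dvd_card _
  have hle : (Nat.card G).factorization 2 = k := by
    have h1 : k ≤ (Nat.card G).factorization 2 :=
      (Nat.prime_two.pow_dvd_iff_le_factorization Nat.card_pos.ne').mp hd
    have h2 : ¬ k + 1 ≤ (Nat.card G).factorization 2 := fun h =>
      hG ((Nat.prime_two.pow_dvd_iff_le_factorization Nat.card_pos.ne').mpr h)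
    omega
  let S : Sylow 2 G := Sylow.ofCard f.range (by rw [hle]; exact hr)
  exact ⟨(MonoidHom.ofInjective hf).trans (Sylow.equiv S P)⟩

/-- Flipping the pairs chosen by `v`. -/
def flipFun (v : Vec) (x : Fin 8) : Fin 8 :=
  if v.toAdd ⟨(x : ℕ) / 2, by omega⟩ = 1 then
    ⟨2 * ((x : ℕ) / 2) + (1 - (x : ℕ) % 2), by omega⟩ else x

/-- Moving the pairs by `σ`. -/
def moveFun (σ : Perm (Fin 4)) (x : Fin 8) : Fin 8 :=
  ⟨2 * (σ ⟨(x : ℕ) / 2, by omega⟩ : ℕ) + (x : ℕ) % 2, by omega⟩

/-- Flips as permutations. -/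
def flips : Vec →* Perm (Fin 8) where
  toFun v := ⟨flipFun v, flipFun v, (by decide +kernel : ∀ v x, flipFun v (flipFun v x) = x) v,
    (by decide +kernel : ∀ v x, flipFun v (flipFun v x) = x) v⟩
  map_one' := Equiv.ext (by decide +kernel : ∀ x, flipFun 1 x = x)
  map_mul' v w := Equiv.ext ((by decide +kernel :
    ∀ v w x, flipFun (v * w) x = flipFun v (flipFun w x)) v w)

/-- Moves as permutations. -/
def moves : Perm (Fin 4) →* Perm (Fin 8) where
  toFun σ := ⟨moveFun σ, moveFun σ⁻¹, (by decide +kernel : ∀ σ x, moveFun σ⁻¹ (moveFun σ x) = x) σ,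
    (by decide +kernel : ∀ σ x, moveFun σ (moveFun σ⁻¹ x) = x) σ⟩
  map_one' := Equiv.ext (by decide +kernel : ∀ x, moveFun 1 x = x)
  map_mul' σ τ := Equiv.ext ((by decide +kernel :
    ∀ σ τ x, moveFun (σ * τ) x = moveFun σ (moveFun τ x)) σ τ)

theorem perm_eight (P : Sylow 2 (Perm (Fin 8))) : Nonempty (Wreath dih ≃* (P : Subgroup (Perm (Fin 8)))) := by
  refine sylow_iso (k := 7) (liftWreath dih flips (moves.comp dih.subtype) ?_)
    (liftWreath_injective _ _ _ _ ?_) (by rw [card_wreath, card_dih]; rfl)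
    (by rw [Nat.card_perm, Nat.card_fin]; decide +kernel) P
  · intro σ v
    refine eq_mul_inv_iff_mul_eq.mpr (Equiv.ext ?_)
    exact (by decide +kernel : ∀ (σ : Perm (Fin 4)) (v : Vec) (x : Fin 8),
      flipFun (permAut σ v) (moveFun σ x) = moveFun σ (flipFun v x)) σ v
  · intro v σ h
    obtain ⟨h1, h2⟩ := (by decide +kernel : ∀ (v : Vec) (σ : Perm (Fin 4)),
      (∀ x, flipFun v (moveFun σ x) = x) → v = 1 ∧ σ = 1) v σ (fun x => Equiv.congr_fun h x)
    exact ⟨h1, Subtype.ext h2⟩

/-- The four commuting involutions of the alternating group of degree eight. -/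
def fourth : Fin 4 → Perm (Fin 8) :=
  ![swap 0 1 * swap 2 3 * swap 4 6 * swap 5 7, swap 0 1 * swap 2 3 * swap 4 7 * swap 5 6,
    swap 0 3 * swap 1 2 * swap 4 5 * swap 6 7, swap 0 2 * swap 1 3 * swap 4 5 * swap 6 7]

/-- Products of the four involutions. -/
def prods (v : Vec) : Perm (Fin 8) :=
  (if v.toAdd 0 = 1 then fourth 0 else 1) * (if v.toAdd 1 = 1 then fourth 1 else 1) *
    (if v.toAdd 2 = 1 then fourth 2 else 1) * (if v.toAdd 3 = 1 then fourth 3 else 1)

/-- The four-group moving them regularly. -/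
def turns (σ : Perm (Fin 4)) : Perm (Fin 8) :=
  ![1, swap 2 3 * swap 4 5, swap 0 7 * swap 1 6 * swap 2 4 * swap 3 5,
    swap 2 3 * swap 4 5 * (swap 0 7 * swap 1 6 * swap 2 4 * swap 3 5)] (σ 0)

theorem alt_eight (P : Sylow 2 (alternatingGroup (Fin 8))) :
    Nonempty (Wreath klein ≃* (P : Subgroup (alternatingGroup (Fin 8)))) := by
  let fn : Vec →* alternatingGroup (Fin 8) :=
    { toFun := fun v => ⟨prods v, (by decide +kernel : ∀ v, Perm.sign (prods v) = 1) v⟩
      map_one' := Subtype.ext (by decide +kernel : prods 1 = 1)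
      map_mul' := fun v w => Subtype.ext
        ((by decide +kernel : ∀ v w, prods (v * w) = prods v * prods w) v w) }
  let fg : klein →* alternatingGroup (Fin 8) :=
    { toFun := fun σ => ⟨turns σ, (by decide +kernel : ∀ σ : klein, Perm.sign (turns σ) = 1) σ⟩
      map_one' := Subtype.ext (by decide +kernel : turns (1 : klein) = 1)
      map_mul' := fun σ τ => Subtype.ext
        ((by decide +kernel : ∀ σ τ : klein, turns (σ * τ : klein) = turns σ * turns τ) σ τ) }
  refine sylow_iso (k := 6) (liftWreath klein fn fg ?_)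
    (liftWreath_injective _ _ _ _ ?_) (by rw [card_wreath, card_klein]; rfl)
    (by rw [nat_card_alternatingGroup, Nat.card_fin]; decide +kernel) P
  · intro σ v
    refine eq_mul_inv_iff_mul_eq.mpr (Subtype.ext ?_)
    exact (by decide +kernel : ∀ (σ : klein) (v : Vec),
      prods (permAut (σ : Perm (Fin 4)) v) * turns σ = turns σ * prods v) σ v
  · intro v σ h
    exact (by decide +kernel : ∀ (v : Vec) (σ : klein), prods v * turns σ = 1 → v = 1 ∧ σ = 1) v σ
      (congrArg Subtype.val h)

end CfsgLib.SylowWreathFour
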