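import Cfsg.Agent.Lib.SylowWreathFour.Model
import Cfsg.Agent.Lib.Classical.OrthForms
import Cfsg.Agent.Lib.Classical.OrthOrderStd
import Cfsg.Agent.Lib.Classical.OrthOmega
import Cfsg.Agent.Lib.Classical.OmegaOnto

/-!
The Sylow 2-subgroups of the orthogonal group of dimension six of minus type over the field with
two elements, as stabilisers of a singular point.
-/

set_option autoImplicit false
set_option synthInstance.maxSize 512

namespace CfsgLib.SylowWreathFour

open CfsgLib.Orth
open scoped commutatorElement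

/-- The space. -/
abbrev V6 : Type := (Fin 2 ⊕ Fin 2) ⊕ Fin 2 → ZMod 2

/-- The form. -/
abbrev q6 : V6 → ZMod 2 := Cfsg.quadFormMinus 2 (ZMod 2) 1 1

/-- Its polar. -/
def b6 (x y : V6) : ZMod 2 := q6 (x + y) - q6 x - q6 y

/-- A singular vector. -/
def u0 : V6 := Sum.elim (Sum.elim ![1, 0] ![0, 0]) ![0, 0]

/-- Its partner. -/
def f0 : V6 := Sum.elim (Sum.elim ![0, 0] ![1, 0]) ![0, 0]

/-- The permuted vectors. -/
def bvec : Fin 4 → V6 :=
  ![Sum.elim (Sum.elim ![0, 0] ![0, 0]) ![0, 1],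
    Sum.elim (Sum.elim ![0, 0] ![0, 0]) ![1, 0],
    Sum.elim (Sum.elim ![0, 0] ![0, 1]) ![1, 1],
    Sum.elim (Sum.elim ![0, 1] ![0, 0]) ![1, 1]]

/-- The dual vectors. -/
def dvec : Fin 4 → V6 :=
  ![Sum.elim (Sum.elim ![0, 1] ![0, 1]) ![1, 0],
    Sum.elim (Sum.elim ![0, 1] ![0, 1]) ![0, 1],
    Sum.elim (Sum.elim ![0, 1] ![0, 0]) ![0, 0],
    Sum.elim (Sum.elim ![0, 0] ![0, 1]) ![0, 0]]

/-- The combination of the permuted vectors. -/
def comb (v : Vec) : V6 := ∑ i, v.toAdd i • bvec i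

/-- The isometry moving the permuted vectors. -/
def moveVec (σ : Equiv.Perm (Fin 4)) (x : V6) : V6 :=
  b6 x f0 • u0 + b6 x u0 • f0 + ∑ i, b6 x (dvec i) • bvec (σ i)

variable {Q : QuadraticForm (ZMod 2) V6}

local notation "B" => QuadraticMap.polar (DFunLike.coe Q)

theorem exists_homs (hQ : ⇑Q = q6) (hB : Nondeg Q) : ∃ (T : Vec →* Grp Q) (L : Equiv.Perm (Fin 4) →* Grp Q),
    (∀ v, IsSiegel u0 (comb v) (T v)) ∧ (∀ σ x, ap (L σ) x = moveVec σ x) ∧
    (∀ σ v, T (permAut σ v) = L σ * T v * (L σ)⁻¹) ∧ ∀ v σ, T v * L σ = 1 → v = 1 ∧ σ = 1 := by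
  have hb : ∀ x y, B x y = b6 x y := fun x y => by
    show Q (x + y) - Q x - Q y = q6 (x + y) - q6 x - q6 y
    rw [hQ]
  have hu : Q u0 = 0 := by rw [hQ]; decide +kernel
  have huv : ∀ v, B u0 (comb v) = 0 := fun v => by
    rw [hb]; exact (by decide +kernel : ∀ v, b6 u0 (comb v) = 0) v
  choose t ht using fun v => exists_siegel hB hu (huv v)
  let T : Vec →* Grp Q :=
    { toFun := t
      map_one' := by
        refine siegel_unique (ht 1) ?_
        rw [show comb 1 = 0 from by decide +kernel]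
        exact siegel_one hu
      map_mul' := fun v w => by
        refine siegel_unique (ht (v * w)) ?_
        rw [show comb (v * w) = comb v + comb w by
          show ∑ i, (v.toAdd i + w.toAdd i) • bvec i = _
          simp only [add_smul, Finset.sum_add_distrib, comb]]
        exact siegel_mul (ht v) (ht w) }
  have hlin : ∀ σ, ∃ f : V6 →ₗ[ZMod 2] V6, ∀ x, f x = moveVec σ x := by
    intro σ
    refine ⟨(QuadraticMap.polarBilin Q f0).smulRight u0 + (QuadraticMap.polarBilin Q u0).smulRight f0 +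
      ∑ i, (QuadraticMap.polarBilin Q (dvec i)).smulRight (bvec (σ i)), fun x => ?_⟩
    simp only [LinearMap.add_apply, LinearMap.smulRight_apply, LinearMap.sum_apply,
      QuadraticMap.polarBilin_apply_apply, b_comm _ x, hb, moveVec]
  choose lf hlf using hlin
  choose l hl using fun σ => exists_iso hB (lf σ) (fun x => by
    rw [hlf, hQ]; exact (by decide +kernel : ∀ σ x, q6 (moveVec σ x) = q6 x) σ x)
  have hval : ∀ σ x, ap (l σ) x = moveVec σ x := fun σ x => (hl σ x).trans (hlf σ x)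
  let L : Equiv.Perm (Fin 4) →* Grp Q :=
    { toFun := l
      map_one' := ext_ap fun x => by
        rw [hval, ap_one]; exact (by decide +kernel : ∀ x, moveVec 1 x = x) x
      map_mul' := fun σ τ => ext_ap fun x => by
        rw [ap_mul, hval (σ * τ), hval τ, hval σ]
        have hexp : moveVec τ x = b6 x f0 • u0 + b6 x u0 • f0 + ∑ i, b6 x (dvec i) • bvec (τ i) := rfl
        rw [hexp, ← hlf σ, map_add, map_add, map_sum, map_smul, map_smul]
        have hu' : ∀ σ, moveVec σ u0 = u0 := by decide +kernel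
        have hf' : ∀ σ, moveVec σ f0 = f0 := by decide +kernel
        have hb' : ∀ σ i, moveVec σ (bvec i) = bvec (σ i) := by decide +kernel
        simp only [map_smul]
        simp only [hlf, hu', hf', hb']
        rfl }
  refine ⟨T, L, ht, hval, fun σ v => ?_, fun v σ h => ?_⟩
  · refine siegel_unique (ht (permAut σ v)) ?_
    obtain ⟨h1, h2, h3⟩ := ht v
    have hLu : ap (L σ) u0 = u0 := (hval σ u0).trans ((by decide +kernel : ∀ σ, moveVec σ u0 = u0) σ)
    have hLc : ap (L σ) (comb v) = comb (permAut σ v) := (hval σ _).trans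
      ((by decide +kernel : ∀ σ v, moveVec σ (comb v) = comb (permAut σ v)) σ v)
    refine ⟨h1, huv _, fun x => ?_⟩
    obtain ⟨y, rfl⟩ : ∃ y, x = ap (L σ) y := ⟨ap (L σ)⁻¹ x, (ap_ap_inv _ x).symm⟩
    rw [ap_mul, ap_mul, ap_inv_ap, show T v = t v from rfl, h3, ap_sub, ap_sub, ap_add, ap_smul, ap_smul, ap_smul, hLu, hLc]
    have e1 : B (ap (L σ) y) u0 = B y u0 := by conv_lhs => rw [← hLu, ap_b]
    have e2 : B (ap (L σ) y) (comb (permAut σ v)) = B y (comb v) := by rw [← hLc, ap_b]
    have e3 : Q (comb (permAut σ v)) = Q (comb v) := by rw [← hLc, ap_q]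
    rw [e1, e2, e3]
  · have key : ∀ x, ap (T v) (moveVec σ x) = x := fun x => by
      rw [← hval, ← ap_mul]
      show ap (T v * L σ) x = x
      rw [h, ap_one]
    simp only [show T v = t v from rfl, (ht v).2.2, hb, hQ] at key
    exact (by decide +kernel : ∀ (v : Vec) (σ : Equiv.Perm (Fin 4)), (∀ x ∈ [f0, bvec 0, bvec 1, bvec 2],
      moveVec σ x + b6 (moveVec σ x) u0 • comb v - b6 (moveVec σ x) (comb v) • u0 -
        (q6 (comb v) * b6 (moveVec σ x) u0) • u0 = x) → v = 1 ∧ σ = 1) v σ (fun x _ => key x)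

theorem card_six : ∀ {Q : QuadraticForm (ZMod 2) V6}, ⇑Q = q6 → Nondeg Q → Nat.card (Grp Q) = 51840 := by
  intro Q hQ hB
  rw [card_orth_minus 3 (by norm_num) (a := (1 : ZMod 2)) (b := 1) (by decide) hQ hB, Nat.card_zmod]
  decide +kernel

theorem orth_six (hQ : ⇑Q = q6) (hB : Nondeg Q) (P : Sylow 2 (Grp Q)) :
    Nonempty (Wreath dih ≃* (P : Subgroup (Grp Q))) := by
  obtain ⟨T, L, -, -, hTL, hinj⟩ := exists_homs hQ hB
  refine sylow_iso (k := 7) (liftWreath dih T (L.comp dih.subtype) (fun σ v => hTL _ v))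
    (liftWreath_injective _ _ _ _ fun v σ h => ⟨(hinj v _ h).1, Subtype.ext (hinj v _ h).2⟩)
    (by rw [card_wreath, card_dih]; rfl) (by rw [card_six hQ hB]; decide) P

theorem pomega_six (hQ : ⇑Q = q6) (hB : Nondeg Q) :
    ∃ f : Wreath klein →* Cfsg.POmega (ZMod 2) ⇑Q, Function.Injective f ∧
      ¬ 2 ^ 7 ∣ Nat.card (Cfsg.POmega (ZMod 2) ⇑Q) := by
  obtain ⟨T, L, hT, hL, hTL, hinj⟩ := exists_homs hQ hB
  have hfin : 5 ≤ Module.finrank (ZMod 2) V6 := by simp
  have hTO : ∀ v, T v ∈ commutator (Grp Q) := fun v => by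
    rw [show commutator (Grp Q) = El Q from omega_eq_El hB hfin]
    exact siegel_mem_El (hT v)
  have hLO : ∀ σ : klein, L σ ∈ commutator (Grp Q) := by
    intro σ
    obtain ⟨a, b, e⟩ := (by decide +kernel : ∀ σ : klein, ∃ a b : Equiv.Perm (Fin 4),
      (σ : Equiv.Perm (Fin 4)) = a * b * a⁻¹ * b⁻¹) σ
    rw [e, ← commutatorElement_def, map_commutatorElement, commutator_def]
    exact Subgroup.commutator_mem_commutator trivial trivial
  let T' : Vec →* commutator (Grp Q) := T.codRestrict _ hTO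
  let L' : klein →* commutator (Grp Q) := (L.comp klein.subtype).codRestrict _ hLO
  let f : Wreath klein →* commutator (Grp Q) :=
    liftWreath klein T' L' (fun σ v => Subtype.ext (hTL _ v))
  let π : commutator (Grp Q) →* Cfsg.POmega (ZMod 2) ⇑Q :=
    QuotientGroup.mk' (Subgroup.center (commutator (Grp Q)))
  refine ⟨π.comp f, ?_, ?_⟩
  · rw [injective_iff_map_eq_one]
    intro x hx
    have hc : f x ∈ Subgroup.center (commutator (Grp Q)) := (QuotientGroup.eq_one_iff _).mp hx
    have hfx : (f x : Grp Q) = T x.left * L (x.right : Equiv.Perm (Fin 4)) := rfl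
    have hcomm : ∀ g ∈ commutator (Grp Q), g * (T x.left * L (x.right : Equiv.Perm (Fin 4))) =
        T x.left * L (x.right : Equiv.Perm (Fin 4)) * g := fun g hg => by
      rw [← hfx]; exact congrArg Subtype.val (Subgroup.mem_center_iff.mp hc ⟨g, hg⟩)
    have hσ : (x.right : Equiv.Perm (Fin 4)) = 1 := by
      have key : ∀ w, permAut (x.right : Equiv.Perm (Fin 4)) w = w := by
        intro w
        have e := hcomm _ (hTO w)
        have e' : T x.left * T (permAut (x.right : Equiv.Perm (Fin 4)) w) * L x.right =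
            T x.left * T w * L x.right := by
          rw [hTL, ← mul_assoc, inv_mul_cancel_right, ← mul_assoc, ← e, ← mul_assoc, ← map_mul,
            ← map_mul, mul_comm]
        have e'' := mul_left_cancel (mul_right_cancel e')
        have hz := hinj (permAut (x.right : Equiv.Perm (Fin 4)) w * w⁻¹) 1 (by
          rw [map_one, mul_one, map_mul, e'', ← map_mul, mul_inv_cancel, map_one])
        exact mul_inv_eq_one.mp hz.1
      exact (by decide +kernel : ∀ σ : Equiv.Perm (Fin 4), (∀ w, permAut σ w = w) → σ = 1) _ key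
    obtain ⟨S, hS⟩ := exists_siegel hB (u := f0) (v := bvec 0) (by rw [hQ]; decide +kernel)
      (by show Q _ - Q _ - Q _ = 0; rw [hQ]; decide +kernel)
    have e := hcomm S (by
      rw [show commutator (Grp Q) = El Q from omega_eq_El hB hfin]; exact siegel_mem_El hS)
    rw [hσ, map_one, mul_one] at e
    have e0 : ap S (ap (T x.left) u0) = ap (T x.left) (ap S u0) := by rw [← ap_mul, ← ap_mul, e]
    have hb : ∀ x y, B x y = b6 x y := fun x y => by
      show Q (x + y) - Q x - Q y = q6 (x + y) - q6 x - q6 y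
      rw [hQ]
    simp only [(hT _).2.2, hS.2.2, hb, hQ] at e0
    have hv : x.left = 1 := (by decide +kernel : ∀ v : Vec,
      (fun y => y + b6 y f0 • bvec 0 - b6 y (bvec 0) • f0 - (q6 (bvec 0) * b6 y f0) • f0)
        (u0 + b6 u0 u0 • comb v - b6 u0 (comb v) • u0 - (q6 (comb v) * b6 u0 u0) • u0) =
      (fun y => y + b6 y u0 • comb v - b6 y (comb v) • u0 - (q6 (comb v) * b6 y u0) • u0)
        (u0 + b6 u0 f0 • bvec 0 - b6 u0 (bvec 0) • f0 - (q6 (bvec 0) * b6 u0 f0) • f0) → v = 1) _ e0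
    exact SemidirectProduct.ext hv (Subtype.ext hσ)
  · intro hd
    have h1 : Nat.card (Cfsg.POmega (ZMod 2) ⇑Q) ∣ Nat.card (commutator (Grp Q)) :=
      Subgroup.card_dvd_of_surjective π (QuotientGroup.mk'_surjective _)
    have h2 := (commutator (Grp Q)).card_mul_index
    rw [card_six hQ hB] at h2
    have h7 : 2 ^ 7 ∣ Nat.card (commutator (Grp Q)) := hd.trans h1
    obtain ⟨i, hi⟩ : 2 ∣ (commutator (Grp Q)).index := by
      rw [show commutator (Grp Q) = Cfsg.Omega (ZMod 2) ⇑Q from rfl,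
        index_omega_two hB (by decide) (by simp) (fun e => by simp at e)]
    obtain ⟨j, hj⟩ := h7
    rw [hj, hi] at h2
    have : 51840 = 256 * (j * i) := by rw [← h2]; ring
    omega

end CfsgLib.SylowWreathFour
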